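/-
Abelian groups of permutations built from regular representations on disjoint blocks.
-/
import Mathlib
import Cfsg.Agent.EqLemmas

set_option autoImplicit false
set_option linter.unusedSectionVars false

namespace Cfsg.Agent.SymAbelian

open Equiv

/-- `a` regular blocks for `G` and `b` for `H`. -/
noncomputable def blockHom (G H : Type) [Group G] [Group H] (a b : ℕ) :
    (Fin a → G) × (Fin b → H) →* Perm ((Fin a × G) ⊕ (Fin b × H)) where
  toFun p := Equiv.sumCongr (prodCongrRight fun i => MulAction.toPermHom G G (p.1 i))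
    (prodCongrRight fun i => MulAction.toPermHom H H (p.2 i))
  map_one' := by ext x; rcases x with ⟨i, g⟩ | ⟨i, g⟩ <;> simp
  map_mul' p q := by ext x; rcases x with ⟨i, g⟩ | ⟨i, g⟩ <;> simp [Perm.mul_apply, mul_assoc]

theorem blockHom_injective (G H : Type) [Group G] [Group H] (a b : ℕ) :
    Function.Injective (blockHom G H a b) := by
  intro p q h
  refine Prod.ext (funext fun i => ?_) (funext fun i => ?_)
  · simpa [blockHom] using Equiv.congr_fun h (Sum.inl (i, 1))
  · simpa [blockHom] using Equiv.congr_fun h (Sum.inr (i, 1))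

theorem sign_blockHom {G H : Type} [Group G] [Group H] [Fintype G] [Fintype H] [DecidableEq G] [DecidableEq H]
    (a b : ℕ) (hG : ∀ g : G, Perm.sign (MulAction.toPermHom G G g) = 1)
    (hH : ∀ g : H, Perm.sign (MulAction.toPermHom H H g) = 1) (p : (Fin a → G) × (Fin b → H)) :
    Perm.sign (blockHom G H a b p) = 1 := by
  show Perm.sign (Equiv.sumCongr _ _) = 1
  rw [Perm.sign_sumCongr, Perm.sign_prodCongrRight, Perm.sign_prodCongrRight]
  simp only [hG, hH, Finset.prod_const_one, mul_one]

variable {α : Type*} [Fintype α] [DecidableEq α]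

theorem exists_abelian (G H : Type) [CommGroup G] [CommGroup H] [Fintype G] [Fintype H] [DecidableEq G]
    [DecidableEq H] (a b : ℕ) (hn : Fintype.card α = a * Fintype.card G + b * Fintype.card H) :
    ∃ A : Subgroup (Perm α), IsMulCommutative A ∧ Nat.card A = Fintype.card G ^ a * Fintype.card H ^ b ∧
      ((∀ g : G, Perm.sign (MulAction.toPermHom G G g) = 1) →
        (∀ g : H, Perm.sign (MulAction.toPermHom H H g) = 1) → ∀ s ∈ A, Perm.sign s = 1) := by
  obtain ⟨e⟩ : Nonempty ((Fin a × G) ⊕ (Fin b × H) ≃ α) := ⟨Fintype.equivOfCardEq (by simp [hn])⟩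
  have hf : Function.Injective (e.permCongrHom.toMonoidHom.comp (blockHom G H a b)) :=
    e.permCongrHom.injective.comp (blockHom_injective G H a b)
  refine ⟨(e.permCongrHom.toMonoidHom.comp (blockHom G H a b)).range, ?_, ?_, ?_⟩
  · refine ⟨⟨?_⟩⟩
    rintro ⟨_, p, rfl⟩ ⟨_, q, rfl⟩
    exact Subtype.ext (by show _ * _ = _ * _; rw [← map_mul, ← map_mul, mul_comm])
  · rw [← Nat.card_congr (MonoidHom.ofInjective hf).toEquiv, Nat.card_prod, Nat.card_fun, Nat.card_fun]
    simp
  · rintro hG hH _ ⟨p, rfl⟩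
    exact (Perm.sign_permCongr _ _).trans (sign_blockHom a b hG hH p)

theorem sign_toPerm_three (g : Multiplicative (ZMod 3)) :
    Perm.sign (MulAction.toPermHom (Multiplicative (ZMod 3)) (Multiplicative (ZMod 3)) g) = 1 := by
  revert g; decide +kernel

theorem sign_toPerm_klein (g : Multiplicative (ZMod 2 × ZMod 2)) :
    Perm.sign (MulAction.toPermHom (Multiplicative (ZMod 2 × ZMod 2)) (Multiplicative (ZMod 2 × ZMod 2)) g) = 1 := by
  revert g; decide +kernel

/-- `3 ^ a * 4 ^ b` is attained by abelian groups of even permutations. -/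
theorem exists_threes_fours_group (a b : ℕ) (hn : Fintype.card α = 3 * a + 4 * b) :
    ∃ A : Subgroup (Perm α), IsMulCommutative A ∧ Nat.card A = 3 ^ a * 4 ^ b ∧ ∀ s ∈ A, Perm.sign s = 1 := by
  obtain ⟨A, h1, h2, h3⟩ := exists_abelian (α := α) (Multiplicative (ZMod 3)) (Multiplicative (ZMod 2 × ZMod 2)) a b
    (by simp [hn]; ring)
  exact ⟨A, h1, by simpa using h2, h3 sign_toPerm_three sign_toPerm_klein⟩

/-- `3 ^ a * 2` is attained by abelian groups of permutations. -/
theorem exists_threes_two_group (a : ℕ) (hn : Fintype.card α = 3 * a + 2) :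
    ∃ A : Subgroup (Perm α), IsMulCommutative A ∧ Nat.card A = 2 * 3 ^ a := by
  obtain ⟨A, h1, h2, -⟩ := exists_abelian (α := α) (Multiplicative (ZMod 3)) (Multiplicative (ZMod 2)) a 1
    (by simp [hn]; ring)
  exact ⟨A, h1, by rw [h2]; simp; ring⟩

end Cfsg.Agent.SymAbelian
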