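/-
Abelian groups of permutations are inverted by involutions.
Main results (namespace `Cfsg.Agent.SymAbelian`):
* `exists_inversion`: for an abelian `P ≤ Perm α` and a `P`-invariant set `S`, an involution supported on `S`
  conjugates the action of each `a ∈ P` on `S` to its inverse.
* `restr`: the restriction hom `P →* Perm α` to an invariant set.
* `two_dvd_automizer`: an element of `N(P)` with square one and not centralising `P` makes `[N(P):C(P)]` even.
-/
import Cfsg.Agent.EqLemmas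

set_option autoImplicit false

namespace Cfsg.Agent.SymAbelian

open Equiv

variable {α : Type*} [DecidableEq α]

/-- `S` is invariant under `P`. -/
def Inv (P : Subgroup (Perm α)) (S : Set α) : Prop := ∀ a ∈ P, ∀ y, a y ∈ S ↔ y ∈ S

theorem inv_univ (P : Subgroup (Perm α)) : Inv P Set.univ := fun _ _ _ => by simp

theorem inv_orbit (P : Subgroup (Perm α)) (x : α) : Inv P {y | ∃ a ∈ P, a x = y} := by
  intro a ha y
  constructor
  · rintro ⟨b, hb, hby⟩
    exact ⟨a⁻¹ * b, mul_mem (inv_mem ha) hb, by simp [hby]⟩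
  · rintro ⟨b, hb, rfl⟩
    exact ⟨a * b, mul_mem ha hb, by simp⟩

theorem apply_comm {P : Subgroup (Perm α)} (hP : IsMulCommutative P) {a b : Perm α} (ha : a ∈ P) (hb : b ∈ P) (x : α) :
    a (b x) = b (a x) := by
  haveI := hP
  have h : a * b = b * a := congrArg Subtype.val (mul_comm' (⟨a, ha⟩ : P) ⟨b, hb⟩)
  exact Equiv.congr_fun h x

/-- In an abelian group of permutations the inverse depends only on the image of a point. -/
theorem inv_apply_congr {P : Subgroup (Perm α)} (hP : IsMulCommutative P) {a b : Perm α} (ha : a ∈ P) (hb : b ∈ P)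
    {x : α} (h : a x = b x) : a⁻¹ x = b⁻¹ x := by
  have h1 : b (a⁻¹ x) = a⁻¹ (b x) := apply_comm hP hb (inv_mem ha) x
  rw [← h, Equiv.Perm.inv_def, Equiv.symm_apply_apply] at h1
  rw [Equiv.Perm.inv_def, Equiv.Perm.inv_def, Equiv.eq_symm_apply, h1]

theorem exists_inversion {P : Subgroup (Perm α)} (hP : IsMulCommutative P) {S : Set α} (hS : Inv P S) :
    ∃ (σ : Perm α) (r : α → α), σ * σ = 1 ∧ (∀ y, y ∉ S → σ y = y) ∧ (∀ y, σ y ∈ S ↔ y ∈ S) ∧
      (∀ a ∈ P, ∀ y ∈ S, σ (a y) = a⁻¹ (σ y)) ∧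
      (∀ y, ∃ a ∈ P, a (r y) = y) ∧ (∀ a ∈ P, ∀ y, r (a y) = r y) ∧
      (∀ y ∈ S, ∀ a ∈ P, a (r y) = y → σ y = a⁻¹ (r y)) := by
  classical
  let st : Setoid α :=
    ⟨fun x y => ∃ a ∈ P, a x = y,
      ⟨fun x => ⟨1, one_mem _, rfl⟩, fun ⟨a, ha, h⟩ => ⟨a⁻¹, inv_mem ha, by simp [← h]⟩,
        fun ⟨a, ha, h⟩ ⟨b, hb, h'⟩ => ⟨b * a, mul_mem hb ha, by simp [h, h']⟩⟩⟩
  let r : α → α := fun y => (Quotient.mk st y).out
  have hr : ∀ y, ∃ a ∈ P, a (r y) = y := fun y => @Quotient.exact α st _ _ (Quotient.out_eq (Quotient.mk st y))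
  have hr' : ∀ a ∈ P, ∀ y, r (a y) = r y := fun a ha y =>
    congrArg Quotient.out (Quotient.sound (s := st) ⟨a⁻¹, inv_mem ha, by simp⟩)
  choose c hc hcy using hr
  let s : α → α := fun y => if y ∈ S then (c y)⁻¹ (r y) else y
  have key : ∀ y ∈ S, ∀ a ∈ P, a (r y) = y → s y = a⁻¹ (r y) := by
    intro y hy a ha h
    simp only [s, if_pos hy]
    exact inv_apply_congr hP (hc y) ha ((hcy y).trans h.symm)
  have hrS : ∀ y, r y ∈ S ↔ y ∈ S := fun y => by
    have := hS (c y) (hc y) (r y)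
    rw [hcy] at this
    exact this.symm
  have hsS : ∀ y, s y ∈ S ↔ y ∈ S := by
    intro y
    by_cases hy : y ∈ S
    · simp only [hy, iff_true, s, if_pos hy]
      exact (hS _ (inv_mem (hc y)) _).2 ((hrS y).2 hy)
    · simp [s, hy]
  have hss : Function.Involutive s := by
    intro y
    by_cases hy : y ∈ S
    · have h1 : s y = (c y)⁻¹ (r y) := key y hy _ (hc y) (hcy y)
      have h2 : r (s y) = r y := by
        rw [h1, hr' _ (inv_mem (hc y))]
        have := hr' (c y) (hc y) (r y)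
        rw [hcy] at this
        exact this.symm
      have h3 := key (s y) ((hsS y).2 hy) (c y)⁻¹ (inv_mem (hc y)) (by rw [h2]; exact h1.symm)
      rw [h3, h2, inv_inv, hcy]
    · simp [s, hy]
  refine ⟨hss.toPerm s, r, Equiv.ext fun y => hss y, fun y hy => if_neg hy, hsS, ?_, fun y => ⟨c y, hc y, hcy y⟩, hr', key⟩
  intro a ha y hy
  change s (a y) = a⁻¹ (s y)
  rw [key (a y) ((hS a ha y).2 hy) (a * c y) (mul_mem ha (hc y)) (by simp [hr' a ha, hcy]),
    key y hy _ (hc y) (hcy y), hr' a ha, apply_comm hP (inv_mem ha) (inv_mem (hc y)), mul_inv_rev]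
  simp

variable {P : Subgroup (Perm α)} {S : Set α}

/-- Restriction to an invariant set. -/
noncomputable def restr (hS : Inv P S) : P →* Perm α :=
  letI := Classical.decPred (· ∈ S)
  { toFun := fun a => Equiv.Perm.ofSubtype ((a : Perm α).subtypePerm (fun y => hS a a.2 y))
    map_one' := by
      ext y
      by_cases hy : y ∈ S
      · rw [Perm.ofSubtype_apply_of_mem _ hy]; simp
      · rw [Perm.ofSubtype_apply_of_not_mem _ hy]; simp
    map_mul' := fun a b => by
      rw [← map_mul]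
      congr 1 }

theorem restr_apply_of_mem (hS : Inv P S) (a : P) {y : α} (hy : y ∈ S) : restr hS a y = (a : Perm α) y := by
  classical
  exact Perm.ofSubtype_apply_of_mem _ hy

theorem restr_apply_of_not_mem (hS : Inv P S) (a : P) {y : α} (hy : y ∉ S) : restr hS a y = y := by
  classical
  exact Perm.ofSubtype_apply_of_not_mem _ hy

theorem restr_commute (hP : IsMulCommutative P) (hS : Inv P S) (a b : P) : Commute (restr hS a) (b : Perm α) := by
  refine Equiv.ext fun y => ?_
  change restr hS a ((b : Perm α) y) = (b : Perm α) (restr hS a y)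
  by_cases hy : y ∈ S
  · rw [restr_apply_of_mem hS a hy, restr_apply_of_mem hS a ((hS b b.2 y).2 hy), apply_comm hP a.2 b.2]
  · rw [restr_apply_of_not_mem hS a hy, restr_apply_of_not_mem hS a (fun h => hy ((hS b b.2 y).1 h))]

/-- Conjugation by an inversion on `S`. -/
theorem conj_eq (hS : Inv P S) {σ : Perm α} (h2 : σ * σ = 1) (hout : ∀ y, y ∉ S → σ y = y)
    (hSσ : ∀ y, σ y ∈ S ↔ y ∈ S) (hconj : ∀ a ∈ P, ∀ y ∈ S, σ (a y) = a⁻¹ (σ y)) (a : P) :
    σ * (a : Perm α) * σ⁻¹ = (a : Perm α) * (restr hS a)⁻¹ * (restr hS a)⁻¹ := by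
  have hinv : σ⁻¹ = σ := inv_eq_of_mul_eq_one_right h2
  rw [hinv, ← map_inv]
  have hσσ : ∀ y, σ (σ y) = y := fun y => Equiv.congr_fun h2 y
  refine Equiv.ext fun y => ?_
  simp only [Perm.mul_apply]
  by_cases hy : y ∈ S
  · rw [hconj a a.2 _ ((hSσ y).2 hy), hσσ, restr_apply_of_mem hS _ hy, restr_apply_of_mem hS _ ((hS _ (a⁻¹).2 y).2 hy)]
    simp
  · rw [hout y hy, restr_apply_of_not_mem hS _ hy, restr_apply_of_not_mem hS _ hy, hout _ (fun h => hy ((hS a a.2 y).1 h))]

omit [DecidableEq α] in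
/-- An element of square one in `N(H) \ C(H)` makes the automizer even. -/
theorem two_dvd_automizer {G : Type*} [Group G] [Finite G] (H : Subgroup G) {σ : G} (h2 : σ * σ = 1)
    (hN : σ ∈ Subgroup.normalizer (H : Set G)) (hC : σ ∉ Subgroup.centralizer (H : Set G)) :
    2 ∣ ((Subgroup.centralizer (H : Set G)).subgroupOf (Subgroup.normalizer (H : Set G))).index := by
  set N := Subgroup.normalizer (H : Set G)
  set C := (Subgroup.centralizer (H : Set G)).subgroupOf N
  haveI : C.Normal := inferInstanceAs ((Subgroup.centralizer (H : Set G)).subgroupOf (Subgroup.normalizer (H : Set G))).Normal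
  have hord : orderOf ((⟨σ, hN⟩ : N) : N ⧸ C) = 2 := by
    refine orderOf_eq_prime ?_ ?_
    · rw [← QuotientGroup.mk_pow, sq]
      have : (⟨σ, hN⟩ : N) * ⟨σ, hN⟩ = 1 := Subtype.ext h2
      rw [this, QuotientGroup.mk_one]
    · rw [Ne, QuotientGroup.eq_one_iff, Subgroup.mem_subgroupOf]
      exact hC
  rw [Subgroup.index_eq_card, ← hord]
  exact orderOf_dvd_natCard _

end Cfsg.Agent.SymAbelian
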