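/-
Products of the parts of a partition of `n`: the maximum `fMax n`, and the maximum `eMax n` relevant to abelian
groups of even permutations.
-/
import Mathlib
import Cfsg.Agent.EqLemmas

set_option autoImplicit false
set_option linter.unusedSimpArgs false

namespace Cfsg.Agent.SymAbelian

/-- The largest product of positive integers with sum `n`. -/
def fMax (n : ℕ) : ℕ :=
  if n % 3 = 0 then 3 ^ (n / 3) else if n % 3 = 1 then (if n = 1 then 1 else 4 * 3 ^ (n / 3 - 1)) else 2 * 3 ^ (n / 3)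

/-- For `3 ≤ n`, `n ≠ 5`: the value `3 ^ a * 4 ^ b` for `n = 3 * a + 4 * b` with `b ≤ 2`. -/
def eMax (n : ℕ) : ℕ := 3 ^ ((n - 4 * (n % 3)) / 3) * 4 ^ (n % 3)

theorem fMax_three_mul (j : ℕ) : fMax (3 * j) = 3 ^ j := by
  have h1 : 3 * j % 3 = 0 := by omega
  have h2 : 3 * j / 3 = j := by omega
  simp [fMax, h1, h2]

theorem fMax_one : fMax 1 = 1 := rfl

theorem fMax_three_mul_add_four (j : ℕ) : fMax (3 * j + 4) = 4 * 3 ^ j := by
  have h1 : (3 * j + 4) % 3 = 1 := by omega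
  have h2 : (3 * j + 4) / 3 - 1 = j := by omega
  have h3 : 3 * j + 4 ≠ 1 := by omega
  simp [fMax, h1, h2, h3]

theorem fMax_three_mul_add_two (j : ℕ) : fMax (3 * j + 2) = 2 * 3 ^ j := by
  have h1 : (3 * j + 2) % 3 = 2 := by omega
  have h2 : (3 * j + 2) / 3 = j := by omega
  simp [fMax, h1, h2]

theorem exists_form (n : ℕ) : (∃ j, n = 3 * j) ∨ n = 1 ∨ (∃ j, n = 3 * j + 4) ∨ ∃ j, n = 3 * j + 2 := by
  rcases (by omega : n % 3 = 0 ∨ n % 3 = 1 ∨ n % 3 = 2) with h | h | h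
  · exact Or.inl ⟨n / 3, by omega⟩
  · rcases eq_or_ne n 1 with rfl | h1
    · exact Or.inr (Or.inl rfl)
    · exact Or.inr (Or.inr (Or.inl ⟨n / 3 - 1, by omega⟩))
  · exact Or.inr (Or.inr (Or.inr ⟨n / 3, by omega⟩))

theorem fMax_le_succ (n : ℕ) : fMax n ≤ fMax (n + 1) := by
  rcases exists_form n with ⟨j, rfl⟩ | rfl | ⟨j, rfl⟩ | ⟨j, rfl⟩
  · rcases j with _ | j
    · decide
    · rw [show 3 * (j + 1) + 1 = 3 * j + 4 from by ring, fMax_three_mul, fMax_three_mul_add_four, pow_succ]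
      omega
  · decide
  · rw [show 3 * j + 4 + 1 = 3 * (j + 1) + 2 from by ring, fMax_three_mul_add_four, fMax_three_mul_add_two, pow_succ]
    omega
  · rw [show 3 * j + 2 + 1 = 3 * (j + 1) from by ring, fMax_three_mul, fMax_three_mul_add_two, pow_succ]
    omega

theorem two_mul_fMax_le (n : ℕ) : 2 * fMax n ≤ fMax (n + 2) := by
  rcases exists_form n with ⟨j, rfl⟩ | rfl | ⟨j, rfl⟩ | ⟨j, rfl⟩
  · rw [fMax_three_mul, fMax_three_mul_add_two]
  · decide
  · rw [show 3 * j + 4 + 2 = 3 * (j + 2) from by ring, fMax_three_mul_add_four, fMax_three_mul, pow_succ, pow_succ]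
    omega
  · rw [show 3 * j + 2 + 2 = 3 * j + 4 from by ring, fMax_three_mul_add_two, fMax_three_mul_add_four]
    omega

theorem three_mul_fMax_le (n : ℕ) : 3 * fMax n ≤ fMax (n + 3) := by
  rcases exists_form n with ⟨j, rfl⟩ | rfl | ⟨j, rfl⟩ | ⟨j, rfl⟩
  · rw [show 3 * j + 3 = 3 * (j + 1) from by ring, fMax_three_mul, fMax_three_mul, pow_succ]
    omega
  · decide
  · rw [show 3 * j + 4 + 3 = 3 * (j + 1) + 4 from by ring, fMax_three_mul_add_four, fMax_three_mul_add_four, pow_succ]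
    omega
  · rw [show 3 * j + 2 + 3 = 3 * (j + 1) + 2 from by ring, fMax_three_mul_add_two, fMax_three_mul_add_two, pow_succ]
    omega

theorem mul_fMax_le (m : ℕ) : ∀ n, m * fMax n ≤ fMax (m + n) := by
  induction m using Nat.strong_induction_on with
  | _ m ih =>
    intro n
    rcases (by omega : m = 0 ∨ m = 1 ∨ m = 2 ∨ m = 3 ∨ m = 4 ∨ 5 ≤ m) with rfl | rfl | rfl | rfl | rfl | h
    · simp
    · simpa [Nat.add_comm 1 n] using fMax_le_succ n
    · simpa [Nat.add_comm 2 n] using two_mul_fMax_le n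
    · simpa [Nat.add_comm 3 n] using three_mul_fMax_le n
    · calc 4 * fMax n = 2 * (2 * fMax n) := by ring
        _ ≤ 2 * fMax (n + 2) := Nat.mul_le_mul_left _ (two_mul_fMax_le n)
        _ ≤ fMax (n + 2 + 2) := two_mul_fMax_le _
        _ = fMax (4 + n) := by rw [Nat.add_comm 4 n]
    · calc m * fMax n ≤ 3 * ((m - 3) * fMax n) := by
            rw [← Nat.mul_assoc]; exact Nat.mul_le_mul_right _ (by omega)
        _ ≤ 3 * fMax (m - 3 + n) := Nat.mul_le_mul_left _ (ih (m - 3) (by omega) n)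
        _ ≤ fMax (m - 3 + n + 3) := three_mul_fMax_le _
        _ = fMax (m + n) := by congr 1; omega

theorem prod_le_fMax (m : Multiset ℕ) : m.prod ≤ fMax m.sum := by
  induction m using Multiset.induction with
  | empty => decide
  | cons a m ih =>
    rw [Multiset.prod_cons, Multiset.sum_cons]
    exact (Nat.mul_le_mul_left a ih).trans (mul_fMax_le a _)

theorem eMax_three_mul (j : ℕ) : eMax (3 * j) = 3 ^ j := by
  have h1 : 3 * j % 3 = 0 := by omega
  have h2 : 3 * j / 3 = j := by omega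
  simp [eMax, h1, h2]

theorem eMax_three_mul_add_four (j : ℕ) : eMax (3 * j + 4) = 4 * 3 ^ j := by
  have h1 : (3 * j + 4) % 3 = 1 := by omega
  have h2 : (3 * j + 4 - 4 * 1) / 3 = j := by omega
  simp [eMax, h1, h2, Nat.mul_comm]

theorem eMax_three_mul_add_eight (j : ℕ) : eMax (3 * j + 8) = 16 * 3 ^ j := by
  have h1 : (3 * j + 8) % 3 = 2 := by omega
  have h2 : (3 * j + 8 - 4 * 2) / 3 = j := by omega
  simp [eMax, h1, h2, Nat.mul_comm]

theorem exists_form' {n : ℕ} (h3 : 3 ≤ n) (h5 : n ≠ 5) :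
    (∃ j, n = 3 * (j + 1)) ∨ (∃ j, n = 3 * j + 4) ∨ ∃ j, n = 3 * j + 8 := by
  rcases (by omega : n % 3 = 0 ∨ n % 3 = 1 ∨ n % 3 = 2) with h | h | h
  · exact Or.inl ⟨n / 3 - 1, by omega⟩
  · exact Or.inr (Or.inl ⟨n / 3 - 1, by omega⟩)
  · exact Or.inr (Or.inr ⟨n / 3 - 2, by omega⟩)

theorem eMax_bounds {n : ℕ} (h3 : 3 ≤ n) (h5 : n ≠ 5) :
    fMax (n - 1) < eMax n ∧ fMax (n - 2) < eMax n ∧ 8 * fMax n ≤ 9 * eMax n := by
  rcases exists_form' h3 h5 with ⟨j, rfl⟩ | ⟨j, rfl⟩ | ⟨j, rfl⟩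
  · rw [show 3 * (j + 1) - 1 = 3 * j + 2 from by omega, fMax_three_mul_add_two, eMax_three_mul, fMax_three_mul]
    have hp : 0 < 3 ^ j := by positivity
    refine ⟨by rw [pow_succ]; omega, ?_, by omega⟩
    rcases j with _ | j
    · decide
    · rw [show 3 * (j + 1 + 1) - 2 = 3 * j + 4 from by omega, fMax_three_mul_add_four]
      have hp : 0 < 3 ^ j := by positivity
      simp only [pow_succ]
      omega
  · have hp : 0 < 3 ^ j := by positivity
    rw [show 3 * j + 4 - 1 = 3 * (j + 1) from by omega, show 3 * j + 4 - 2 = 3 * j + 2 from by omega,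
      fMax_three_mul, fMax_three_mul_add_two, fMax_three_mul_add_four, eMax_three_mul_add_four, pow_succ]
    omega
  · have hp : 0 < 3 ^ j := by positivity
    rw [show 3 * j + 8 - 1 = 3 * (j + 1) + 4 from by omega, show 3 * j + 8 - 2 = 3 * (j + 2) from by omega,
      show 3 * j + 8 = 3 * (j + 2) + 2 from by omega, fMax_three_mul_add_four, fMax_three_mul,
      fMax_three_mul_add_two, show 3 * (j + 2) + 2 = 3 * j + 8 from by omega, eMax_three_mul_add_eight]
    simp only [pow_succ]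
    omega

theorem exists_threes_fours (m : Multiset ℕ) (h : ∀ x ∈ m, x = 3 ∨ x = 4) :
    ∃ a b, m = Multiset.replicate a 3 + Multiset.replicate b 4 := by
  induction m using Multiset.induction with
  | empty => exact ⟨0, 0, by simp⟩
  | cons x m ih =>
    obtain ⟨a, b, hm⟩ := ih fun y hy => h y (Multiset.mem_cons_of_mem hy)
    rcases h x (Multiset.mem_cons_self _ _) with rfl | rfl
    · exact ⟨a + 1, b, by rw [hm, Multiset.replicate_succ, Multiset.cons_add]⟩
    · exact ⟨a, b + 1, by rw [hm, Multiset.replicate_succ, Multiset.add_cons]⟩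

theorem threes_fours_le (a b : ℕ) : 3 ^ a * 4 ^ b ≤ eMax (3 * a + 4 * b) := by
  have hb : 4 ^ b ≤ 81 ^ (b / 3) * 4 ^ (b % 3) := by
    calc 4 ^ b = 64 ^ (b / 3) * 4 ^ (b % 3) := by
          rw [show (64 : ℕ) = 4 ^ 3 from rfl, ← pow_mul, ← pow_add, Nat.div_add_mod]
      _ ≤ 81 ^ (b / 3) * 4 ^ (b % 3) := Nat.mul_le_mul_right _ (Nat.pow_le_pow_left (by norm_num) _)
  have h1 : (3 * a + 4 * b) % 3 = b % 3 := by omega
  have h2 : (3 * a + 4 * b - 4 * (b % 3)) / 3 = a + 4 * (b / 3) := by omega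
  rw [eMax, h1, h2, pow_add, pow_mul, show (3 : ℕ) ^ 4 = 81 from rfl, Nat.mul_assoc]
  exact Nat.mul_le_mul_left _ hb

theorem erase_two_lt {n : ℕ} (h3 : 3 ≤ n) (h5 : n ≠ 5) (m : Multiset ℕ) (hs : m.sum = n) (h2 : 2 ∈ m) :
    (m.erase 2).prod < eMax n := by
  have hsum : 2 + (m.erase 2).sum = n := by rw [← hs, ← Multiset.sum_cons, Multiset.cons_erase h2]
  calc (m.erase 2).prod ≤ fMax (m.erase 2).sum := prod_le_fMax _
    _ = fMax (n - 2) := by congr 1; omega
    _ < eMax n := (eMax_bounds h3 h5).2.1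

theorem prod_le_eMax {n : ℕ} (h3 : 3 ≤ n) (h5 : n ≠ 5) (m : Multiset ℕ) (hs : m.sum = n) (hpos : ∀ x ∈ m, 1 ≤ x)
    (h2 : 2 ∉ m) : m.prod ≤ eMax n ∧ (m.prod = eMax n → ∀ x ∈ m, x = 3 ∨ x = 4) := by
  by_cases h34 : ∀ x ∈ m, x = 3 ∨ x = 4
  · refine ⟨?_, fun _ => h34⟩
    obtain ⟨a, b, rfl⟩ := exists_threes_fours m h34
    simp only [Multiset.sum_add, Multiset.sum_replicate, smul_eq_mul] at hs
    rw [Multiset.prod_add, Multiset.prod_replicate, Multiset.prod_replicate,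
      show n = 3 * a + 4 * b from by omega]
    exact threes_fours_le a b
  · push Not at h34
    obtain ⟨x, hx, hx3, hx4⟩ := h34
    have hlt : m.prod < eMax n := by
      have hsum : x + (m.erase x).sum = n := by rw [← hs, ← Multiset.sum_cons, Multiset.cons_erase hx]
      have hprod : m.prod = x * (m.erase x).prod := by rw [← Multiset.prod_cons, Multiset.cons_erase hx]
      have hle : m.prod ≤ x * fMax (n - x) := by
        rw [hprod, show n - x = (m.erase x).sum from by omega]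
        exact Nat.mul_le_mul_left _ (prod_le_fMax _)
      obtain ⟨hb1, -, hb3⟩ := eMax_bounds h3 h5
      have hx2 : x ≠ 2 := fun h => h2 (h ▸ hx)
      have hx1 := hpos x hx
      rcases (by omega : x = 1 ∨ x = 5 ∨ 6 ≤ x) with rfl | rfl | h6
      · omega
      · have h := (Nat.mul_le_mul_left 2 (three_mul_fMax_le (n - 5))).trans (two_mul_fMax_le (n - 5 + 3))
        rw [show n - 5 + 3 + 2 = n from by omega] at h
        omega
      · have h : 3 * ((x - 3) * fMax (n - x)) ≤ fMax n := by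
          refine (Nat.mul_le_mul_left 3 (mul_fMax_le _ _)).trans ((three_mul_fMax_le _).trans (le_of_eq ?_))
          congr 1; omega
        have h' : 3 * (x * fMax (n - x)) ≤ 2 * (3 * ((x - 3) * fMax (n - x))) := by
          rw [← Nat.mul_assoc, ← Nat.mul_assoc, ← Nat.mul_assoc]
          exact Nat.mul_le_mul_right _ (by omega)
        omega
    exact ⟨hlt.le, fun h => absurd h hlt.ne⟩

theorem threes_fours_inj {a b a' b' : ℕ} (h : 3 ^ a * 4 ^ b = 3 ^ a' * 4 ^ b') : a = a' ∧ b = b' := by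
  have key : ∀ {a b a' b' : ℕ}, 3 ^ a * 4 ^ b = 3 ^ a' * 4 ^ b' → a ≤ a' := by
    intro a b a' b' h
    have h1 : 3 ^ a ∣ 3 ^ a' * 4 ^ b' := ⟨4 ^ b, h.symm⟩
    have h2 : 3 ^ a ∣ 3 ^ a' := (Nat.Coprime.pow _ _ (by norm_num)).dvd_of_dvd_mul_right h1
    exact (Nat.pow_dvd_pow_iff_le_right (by norm_num)).mp h2
  obtain rfl : a = a' := le_antisymm (key h) (key h.symm)
  exact ⟨rfl, Nat.pow_right_injective (by norm_num) (Nat.eq_of_mul_eq_mul_left (by positivity) h)⟩

end Cfsg.Agent.SymAbelian
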