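/-
Abelian groups of permutations of a finite set: the order is at most the product of the orbit sizes, groups
attaining this bound, and abelian groups of even permutations of the largest order.
-/
import Cfsg.Agent.Lib.SymAbelian.Parts
import Cfsg.Agent.Lib.SymAbelian.Inversion

set_option autoImplicit false
set_option linter.style.haveILetI false
set_option linter.unusedSectionVars false

namespace Cfsg.Agent.SymAbelian

open Equiv

variable {α : Type*}

/-- The orbits of a group of permutations. -/
abbrev Blk (A : Subgroup (Perm α)) : Type _ := MulAction.orbitRel.Quotient A α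

/-- The orbit of a point. -/
def blk (A : Subgroup (Perm α)) (x : α) : Blk A := Quotient.mk'' x

/-- The size of an orbit. -/
noncomputable def blkSize (A : Subgroup (Perm α)) (O : Blk A) : ℕ := Nat.card {x : α // blk A x = O}

/-- `x` and `y` lie in the same orbit. -/
def Rel (A : Subgroup (Perm α)) (x y : α) : Prop := ∃ a ∈ A, a x = y

theorem blk_eq_iff {A : Subgroup (Perm α)} {x y : α} : blk A x = blk A y ↔ Rel A y x := by
  unfold blk Rel
  rw [Quotient.eq'', MulAction.orbitRel_apply, MulAction.mem_orbit_iff]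
  constructor
  · rintro ⟨⟨a, ha⟩, h⟩; exact ⟨a, ha, h⟩
  · rintro ⟨a, ha, h⟩; exact ⟨⟨a, ha⟩, h⟩

theorem blk_out {A : Subgroup (Perm α)} (O : Blk A) : blk A (Quotient.out O) = O := Quotient.out_eq' O

theorem blk_apply {A : Subgroup (Perm α)} {a : Perm α} (ha : a ∈ A) (x : α) : blk A (a x) = blk A x :=
  blk_eq_iff.mpr ⟨a, ha, rfl⟩

theorem rel_out {A : Subgroup (Perm α)} (x : α) : Rel A (Quotient.out (blk A x)) x :=
  blk_eq_iff.mp (blk_out (blk A x)).symm

theorem eq_of_apply_eq {A : Subgroup (Perm α)} (hA : IsMulCommutative A) {a b : Perm α} (ha : a ∈ A) (hb : b ∈ A)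
    {x y : α} (h : a x = b x) (hxy : Rel A x y) : a y = b y := by
  classical
  obtain ⟨c, hc, rfl⟩ := hxy
  rw [apply_comm hA ha hc, apply_comm hA hb hc, h]

/-- The images of the representatives of the orbits other than those excluded. -/
noncomputable def repMap (A : Subgroup (Perm α)) (p : Blk A → Prop) (a : A) (O : {O : Blk A // p O}) :
    {x : α // blk A x = O.1} :=
  ⟨(a : Perm α) (Quotient.out O.1), by rw [blk_apply a.2, blk_out]⟩

variable [Fintype α] [DecidableEq α]

theorem repMap_injective {A : Subgroup (Perm α)} (hA : IsMulCommutative A) :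
    Function.Injective (repMap A fun _ => True) := by
  intro a b h
  refine Subtype.ext (Equiv.ext fun x => eq_of_apply_eq hA a.2 b.2 ?_ (rel_out x))
  exact congrArg Subtype.val (congrFun h ⟨blk A x, trivial⟩)

/-- The product of all orbit sizes. -/
noncomputable def blkProd (A : Subgroup (Perm α)) : ℕ := ∏ᶠ O : Blk A, blkSize A O

/-- The multiset of orbit sizes. -/
noncomputable def blkSizes (A : Subgroup (Perm α)) : Multiset ℕ :=
  letI := Fintype.ofFinite (Blk A)
  (Finset.univ : Finset (Blk A)).val.map (blkSize A)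

theorem one_le_blkSize (A : Subgroup (Perm α)) (O : Blk A) : 1 ≤ blkSize A O :=
  Nat.card_pos_iff.mpr ⟨⟨⟨Quotient.out O, blk_out O⟩⟩, inferInstance⟩

theorem blkSizes_pos (A : Subgroup (Perm α)) : ∀ x ∈ blkSizes A, 1 ≤ x := by
  intro x hx
  obtain ⟨O, -, rfl⟩ := Multiset.mem_map.mp hx
  exact one_le_blkSize A O

theorem mem_blkSizes {A : Subgroup (Perm α)} {m : ℕ} : m ∈ blkSizes A ↔ ∃ O, blkSize A O = m := by
  simp [blkSizes]

theorem sum_blkSizes (A : Subgroup (Perm α)) : (blkSizes A).sum = Fintype.card α := by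
  letI := Fintype.ofFinite (Blk A)
  show ∑ O, blkSize A O = _
  simp only [blkSize]
  rw [← Nat.card_sigma, Nat.card_congr (Equiv.sigmaFiberEquiv (blk A)), Nat.card_eq_fintype_card]

theorem card_le_prod {A : Subgroup (Perm α)} (hA : IsMulCommutative A) : Nat.card A ≤ (blkSizes A).prod := by
  letI := Fintype.ofFinite (Blk A)
  refine (Nat.card_le_card_of_injective _ (repMap_injective hA)).trans (le_of_eq ?_)
  rw [Nat.card_pi]
  show ∏ O : {O : Blk A // True}, blkSize A O.1 = _
  rw [← Finset.prod_subtype (Finset.univ : Finset (Blk A)) (by simp) (fun O => blkSize A O)]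
  rfl

/-- If the bound is attained, the group contains all elements local to an orbit. -/
theorem exists_local {A : Subgroup (Perm α)} (hA : IsMulCommutative A) (hc : Nat.card A = (blkSizes A).prod)
    (f : Blk A → α) (hf : ∀ O, blk A (f O) = O) : ∃ a ∈ A, ∀ O, a (Quotient.out O) = f O := by
  letI := Fintype.ofFinite (Blk A)
  have hbij : Function.Bijective (repMap A fun _ => True) := by
    apply (repMap_injective hA).bijective_of_nat_card_le
    rw [Nat.card_pi, hc]
    show ∏ O : {O : Blk A // True}, blkSize A O.1 ≤ _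
    rw [← Finset.prod_subtype (Finset.univ : Finset (Blk A)) (by simp) (fun O => blkSize A O)]
    rfl
  obtain ⟨a, ha⟩ := hbij.2 fun O => ⟨f O.1, hf O.1⟩
  exact ⟨a, a.2, fun O => congrArg Subtype.val (congrFun ha ⟨O, trivial⟩)⟩

/-- Local elements. -/
theorem exists_local_apply {A : Subgroup (Perm α)} (hA : IsMulCommutative A) (hc : Nat.card A = (blkSizes A).prod)
    {x y : α} (h : Rel A x y) : ∃ a ∈ A, a x = y ∧ ∀ z, blk A z ≠ blk A x → a z = z := by
  classical
  obtain ⟨b, hb, rfl⟩ := h
  obtain ⟨a, ha, haO⟩ := exists_local hA hc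
    (fun O => if O = blk A x then b (Quotient.out O) else Quotient.out O)
    (fun O => by
      split_ifs
      · rw [blk_apply hb, blk_out]
      · exact blk_out O)
  refine ⟨a, ha, ?_, fun z hz => ?_⟩
  · exact eq_of_apply_eq hA ha hb (by rw [haO, if_pos rfl]) (rel_out x)
  · exact eq_of_apply_eq hA ha (one_mem A) (by rw [haO, if_neg hz, Perm.one_apply]) (rel_out z)

theorem card_le_prod_erase {A : Subgroup (Perm α)} (hA : IsMulCommutative A) (hev : ∀ a ∈ A, Perm.sign a = 1)
    {O₀ : Blk A} (h2 : blkSize A O₀ ≤ 2) : Nat.card A ≤ ((blkSizes A).erase (blkSize A O₀)).prod := by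
  classical
  letI := Fintype.ofFinite (Blk A)
  have hinj : Function.Injective (repMap A (· ≠ O₀)) := by
    intro a b h
    have hfix : ∀ x, blk A x ≠ O₀ → (a : Perm α) x = (b : Perm α) x := fun x hx =>
      eq_of_apply_eq hA a.2 b.2 (congrArg Subtype.val (congrFun h ⟨blk A x, hx⟩) :) (rel_out x)
    apply Subtype.ext
    have hc : (b : Perm α)⁻¹ * a ∈ A := mul_mem (inv_mem b.2) a.2
    have hsupp : ((b : Perm α)⁻¹ * a).support ⊆ Finset.univ.filter (fun x => blk A x = O₀) := by
      intro x hx
      rw [Finset.mem_filter]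
      refine ⟨Finset.mem_univ _, ?_⟩
      by_contra hne
      rw [Perm.mem_support, Perm.mul_apply, hfix x hne, Perm.inv_def, Equiv.symm_apply_apply] at hx
      exact hx rfl
    have hcard : ((b : Perm α)⁻¹ * a).support.card ≤ 2 := by
      refine (Finset.card_le_card hsupp).trans ?_
      rw [← Fintype.card_subtype, ← Nat.card_eq_fintype_card]
      exact h2
    have hone : (b : Perm α)⁻¹ * a = 1 := by
      rcases (by omega : ((b : Perm α)⁻¹ * a).support.card = 0 ∨ ((b : Perm α)⁻¹ * a).support.card = 1 ∨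
        ((b : Perm α)⁻¹ * a).support.card = 2) with h0 | h0 | h0
      · exact Perm.support_eq_empty_iff.mp (Finset.card_eq_zero.mp h0)
      · exact absurd h0 (Perm.card_support_ne_one _)
      · have := (Perm.card_support_eq_two.mp h0).sign_eq
        rw [hev _ hc] at this
        exact absurd this (by decide)
    exact (inv_mul_eq_one.mp hone).symm
  refine (Nat.card_le_card_of_injective _ hinj).trans (le_of_eq ?_)
  rw [Nat.card_pi]
  show ∏ O : {O : Blk A // O ≠ O₀}, blkSize A O.1 = _
  rw [← Finset.prod_subtype ((Finset.univ : Finset (Blk A)).erase O₀) (by simp) (fun O => blkSize A O)]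
  show (((Finset.univ : Finset (Blk A)).val.erase O₀).map (blkSize A)).prod = _
  rw [Multiset.map_erase_of_mem _ _ (Finset.mem_univ_val _)]
  rfl

/-- Abelian groups of even permutations: the bound, and the shape of the groups attaining it. -/
theorem card_le_eMax {A : Subgroup (Perm α)} (hA : IsMulCommutative A) (hev : ∀ a ∈ A, Perm.sign a = 1)
    (h3 : 3 ≤ Fintype.card α) (h5 : Fintype.card α ≠ 5) :
    Nat.card A ≤ eMax (Fintype.card α) ∧ (Nat.card A = eMax (Fintype.card α) →
      Nat.card A = (blkSizes A).prod ∧ ∀ O, blkSize A O = 3 ∨ blkSize A O = 4) := by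
  by_cases h2 : (2 : ℕ) ∈ blkSizes A
  · obtain ⟨O, hO⟩ := mem_blkSizes.mp h2
    have hlt : Nat.card A < eMax (Fintype.card α) := by
      have h := card_le_prod_erase hA hev (O₀ := O) hO.le
      rw [hO] at h
      exact h.trans_lt (erase_two_lt h3 h5 _ (sum_blkSizes A) h2)
    exact ⟨hlt.le, fun h => absurd h hlt.ne⟩
  · obtain ⟨hle, heq⟩ := prod_le_eMax h3 h5 (blkSizes A) (sum_blkSizes A) (blkSizes_pos A) h2
    refine ⟨(card_le_prod hA).trans hle, fun h => ?_⟩
    have hp : (blkSizes A).prod = eMax (Fintype.card α) := le_antisymm hle (h ▸ card_le_prod hA)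
    exact ⟨h.trans hp.symm, fun O => heq hp _ (mem_blkSizes.mpr ⟨O, rfl⟩)⟩

theorem card_le_fMax {A : Subgroup (Perm α)} (hA : IsMulCommutative A) : Nat.card A ≤ fMax (Fintype.card α) :=
  (card_le_prod hA).trans (sum_blkSizes A ▸ prod_le_fMax _)

theorem card_le_five {A : Subgroup (Perm α)} (hA : IsMulCommutative A) (hev : ∀ a ∈ A, Perm.sign a = 1)
    (h5 : Fintype.card α = 5) : Nat.card A ≤ 5 := by
  have key : ∀ m : Multiset ℕ, m.sum = 5 → (∀ x ∈ m, 1 ≤ x) → 2 ∉ m → m.prod ≤ 5 := by
    intro m hs hpos h2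
    rcases Multiset.empty_or_exists_mem m with rfl | ⟨x, hx⟩
    · simp at hs
    · obtain ⟨t, rfl⟩ := Multiset.exists_cons_of_mem hx
      rw [Multiset.sum_cons] at hs
      rw [Multiset.prod_cons]
      have hx1 := hpos x hx
      have hle := prod_le_fMax t
      rcases (by omega : x = 1 ∨ x = 2 ∨ x = 3 ∨ x = 4 ∨ x = 5) with rfl | rfl | rfl | rfl | rfl
      · rw [show t.sum = 4 from by omega, show fMax 4 = 4 from rfl] at hle; omega
      · exact absurd hx h2
      · have ht : ∀ y ∈ t, y = 1 := by
          intro y hy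
          have h1 := hpos y (Multiset.mem_cons_of_mem hy)
          have hy2 : y ≠ 2 := fun h => h2 (h ▸ Multiset.mem_cons_of_mem hy)
          have h3 := Multiset.le_sum_of_mem hy
          omega
        rw [Multiset.prod_eq_one ht]; omega
      · rw [show t.sum = 1 from by omega, show fMax 1 = 1 from rfl] at hle; omega
      · rw [show t.sum = 0 from by omega, show fMax 0 = 1 from rfl] at hle; omega
  by_cases h2 : (2 : ℕ) ∈ blkSizes A
  · obtain ⟨O, hO⟩ := mem_blkSizes.mp h2
    have h := card_le_prod_erase hA hev (O₀ := O) hO.le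
    rw [hO] at h
    have hsum : 2 + ((blkSizes A).erase 2).sum = 5 := by
      rw [← h5, ← sum_blkSizes A, ← Multiset.sum_cons, Multiset.cons_erase h2]
    refine h.trans ((prod_le_fMax _).trans ?_)
    rw [show ((blkSizes A).erase 2).sum = 3 from by omega]
    decide
  · exact (card_le_prod hA).trans (key _ (by rw [sum_blkSizes, h5]) (blkSizes_pos A) h2)

end Cfsg.Agent.SymAbelian
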