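/-
Abelian groups of even permutations with all orbits of size 3 or 4 and of order the product of the orbit sizes
are determined by their orbits, and are conjugate by an even permutation when the orbit sizes agree.
-/
import Cfsg.Agent.Lib.SymAbelian.MaxAbelian

set_option autoImplicit false
set_option linter.style.haveILetI false
set_option linter.unusedSectionVars false

namespace Cfsg.Agent.SymAbelian

open Equiv

variable {α : Type*} [Fintype α] [DecidableEq α]

theorem small_three : ∀ a b : Perm (Fin 3), Perm.sign a = 1 → Perm.sign b = 1 → (∀ x, a x ≠ x) → (∀ x, b x ≠ x) →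
    ∀ x, a x = b x → a = b := by
  decide +kernel

theorem small_four : ∀ a b : Perm (Fin 4), Perm.sign a = 1 → Perm.sign b = 1 → (∀ x, a x ≠ x) → (∀ x, b x ≠ x) →
    ∀ x, a x = b x → a = b := by
  decide +kernel

/-- Two even permutations moving exactly the points of a set of size 3 or 4 and agreeing at one of them are equal. -/
theorem eq_of_small {p : α → Prop} [DecidablePred p]
    (hsz : Nat.card {x // p x} = 3 ∨ Nat.card {x // p x} = 4) {a b : Perm α}
    (ha : ∀ x, ¬p x → a x = x) (hb : ∀ x, ¬p x → b x = x) (ha' : ∀ x, p x → a x ≠ x) (hb' : ∀ x, p x → b x ≠ x)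
    (hsa : Perm.sign a = 1) (hsb : Perm.sign b = 1) {x : α} (hx : p x) (hab : a x = b x) : a = b := by
  have hinv : ∀ c : Perm α, (∀ x, ¬p x → c x = x) → ∀ x, p (c x) ↔ p x := by
    intro c hc x
    constructor
    · intro h; by_contra hx'; exact hx' (hc x hx' ▸ h)
    · intro h; by_contra hx'
      have : c x = x := c.injective (hc _ hx')
      exact hx' (this.symm ▸ h)
  have key : ∀ m, Nat.card {x // p x} = m → (∀ a b : Perm (Fin m), Perm.sign a = 1 → Perm.sign b = 1 →
      (∀ x, a x ≠ x) → (∀ x, b x ≠ x) → ∀ x, a x = b x → a = b) → a = b := by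
    intro m hm hdec
    let e : {x // p x} ≃ Fin m := Fintype.equivFinOfCardEq (by rw [← Nat.card_eq_fintype_card, hm])
    have sgn : ∀ (c : Perm α) (hc : ∀ x, ¬p x → c x = x), Perm.sign c = 1 →
        Perm.sign (e.permCongr (c.subtypePerm (hinv c hc))) = 1 := by
      intro c hc h
      rw [Perm.sign_permCongr, Perm.sign_subtypePerm _ _ (fun y hy => by by_contra hp; exact hy (hc y hp))]
      exact h
    have fpf : ∀ (c : Perm α) (hc : ∀ x, ¬p x → c x = x), (∀ x, p x → c x ≠ x) →
        ∀ i, e.permCongr (c.subtypePerm (hinv c hc)) i ≠ i := by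
      intro c hc h i hi
      rw [Equiv.permCongr_apply, Equiv.apply_eq_iff_eq_symm_apply] at hi
      exact h _ (e.symm i).2 (congrArg Subtype.val hi)
    have h := hdec _ _ (sgn a ha hsa) (sgn b hb hsb) (fpf a ha ha') (fpf b hb hb') (e ⟨x, hx⟩)
      (by simp [Equiv.permCongr_apply, hab])
    have h' := e.permCongr.injective h
    ext y
    by_cases hy : p y
    · exact congrArg Subtype.val (Equiv.congr_fun h' ⟨y, hy⟩)
    · rw [ha y hy, hb y hy]
  rcases hsz with h | h
  · exact key 3 h small_three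
  · exact key 4 h small_four

theorem le_of_rel {A B : Subgroup (Perm α)} (hA : IsMulCommutative A) (hB : IsMulCommutative B)
    (hAev : ∀ a ∈ A, Perm.sign a = 1) (hBev : ∀ b ∈ B, Perm.sign b = 1)
    (hAc : Nat.card A = (blkSizes A).prod) (hBc : Nat.card B = (blkSizes B).prod)
    (hsz : ∀ O, blkSize A O = 3 ∨ blkSize A O = 4) (hrel : ∀ x y, blk A x = blk A y ↔ blk B x = blk B y) :
    B ≤ A := by
  classical
  intro b hb
  have hbA : ∀ x, blk A (b x) = blk A x := fun x => (hrel _ _).mpr (blk_apply hb x)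
  have relA : ∀ {x y}, blk A x = blk A y → Rel A y x := fun h => blk_eq_iff.mp h
  have relB : ∀ {x y}, blk A x = blk A y → Rel B y x := fun h => blk_eq_iff.mp ((hrel _ _).mp h)
  obtain ⟨a, ha, haO⟩ := exists_local hA hAc (fun O => b (Quotient.out O)) (fun O => by rw [hbA, blk_out])
  have heq : a = b := by
    ext x
    let r := Quotient.out (blk A x)
    have hr : blk A r = blk A x := blk_out _
    have har : a r = b r := haO _
    by_cases hbr : b r = r
    · rw [eq_of_apply_eq hA ha (one_mem A) (x := r) (har.trans hbr) (relA hr.symm),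
        eq_of_apply_eq hB hb (one_mem B) (x := r) hbr (relB hr.symm)]
    · obtain ⟨a₀, ha₀, ha₀r, ha₀f⟩ := exists_local_apply hA hAc (relA (hbA r))
      obtain ⟨b₀, hb₀, hb₀r, hb₀f⟩ := exists_local_apply hB hBc (relB (hbA r))
      have h₀ : a₀ = b₀ := by
        refine eq_of_small (p := fun z => blk A z = blk A r) (hsz (blk A r)) ha₀f
          (fun z hz => hb₀f z fun h => hz ((hrel _ _).mpr h)) ?_ ?_ (hAev _ ha₀) (hBev _ hb₀) rfl
          (ha₀r.trans hb₀r.symm)
        · intro z hz h
          exact hbr (ha₀r.symm.trans (eq_of_apply_eq hA ha₀ (one_mem A) (x := z) h (relA hz.symm)))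
        · intro z hz h
          exact hbr (hb₀r.symm.trans (eq_of_apply_eq hB hb₀ (one_mem B) (x := z) h (relB hz.symm)))
      rw [eq_of_apply_eq hA ha ha₀ (x := r) (har.trans ha₀r.symm) (relA hr.symm),
        eq_of_apply_eq hB hb hb₀ (x := r) hb₀r.symm (relB hr.symm), h₀]
  exact heq ▸ ha

theorem exists_conj_of_eMax {A B : Subgroup (Perm α)} (hA : IsMulCommutative A) (hB : IsMulCommutative B)
    (hAev : ∀ a ∈ A, Perm.sign a = 1) (hBev : ∀ b ∈ B, Perm.sign b = 1)
    (h3 : 3 ≤ Fintype.card α) (h5 : Fintype.card α ≠ 5)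
    (hAc : Nat.card A = eMax (Fintype.card α)) (hBc : Nat.card B = eMax (Fintype.card α)) :
    ∃ g : Perm α, Perm.sign g = 1 ∧ A.map (MulAut.conj g).toMonoidHom = B := by
  classical
  obtain ⟨hAp, hAs⟩ := (card_le_eMax hA hAev h3 h5).2 hAc
  obtain ⟨hBp, hBs⟩ := (card_le_eMax hB hBev h3 h5).2 hBc
  have hmem34 : ∀ {C : Subgroup (Perm α)}, (∀ O, blkSize C O = 3 ∨ blkSize C O = 4) →
      ∀ x ∈ blkSizes C, x = 3 ∨ x = 4 := by
    intro C hC x hx
    obtain ⟨O, rfl⟩ := mem_blkSizes.mp hx
    exact hC O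
  obtain ⟨a, b, hab⟩ := exists_threes_fours _ (hmem34 hAs)
  obtain ⟨a', b', hab'⟩ := exists_threes_fours _ (hmem34 hBs)
  have hsizes : blkSizes A = blkSizes B := by
    have h : (blkSizes A).prod = (blkSizes B).prod := by rw [← hAp, ← hBp, hAc, hBc]
    rw [hab, hab', Multiset.prod_add, Multiset.prod_add] at h
    simp only [Multiset.prod_replicate] at h
    obtain ⟨rfl, rfl⟩ := threes_fours_inj h
    rw [hab, hab']
  have hcount : ∀ (C : Subgroup (Perm α)) (m : ℕ), Nat.card {O : Blk C // blkSize C O = m} = (blkSizes C).count m := by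
    intro C m
    letI := Fintype.ofFinite (Blk C)
    rw [Nat.card_eq_fintype_card, Fintype.card_subtype, blkSizes, Multiset.count_map, Finset.card_def,
      Finset.filter_val]
    congr 1
    exact Multiset.filter_congr fun O _ => eq_comm
  let e0 : Blk A ≃ Blk B := Equiv.ofFiberEquiv (f := blkSize A) (g := blkSize B)
    fun m => (Finite.card_eq.mp (by rw [hcount, hcount, hsizes])).some
  have he0 : ∀ O, blkSize B (e0 O) = blkSize A O := fun O => Equiv.ofFiberEquiv_map _ O
  have hfib : ∀ O' : Blk B, Nat.card {x : α // e0 (blk A x) = O'} = Nat.card {x : α // blk B x = O'} := by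
    intro O'
    obtain ⟨O, rfl⟩ := e0.surjective O'
    show _ = blkSize B (e0 O)
    rw [he0]
    exact Nat.card_congr (Equiv.subtypeEquivRight fun x => e0.apply_eq_iff_eq)
  let g₀ : Perm α := Equiv.ofFiberEquiv (f := fun x => e0 (blk A x)) (g := blk B)
    fun O' => (Finite.card_eq.mp (hfib O')).some
  have hg₀ : ∀ x, blk B (g₀ x) = e0 (blk A x) := fun x => Equiv.ofFiberEquiv_map _ x
  obtain ⟨g, hgs, hg⟩ : ∃ g : Perm α, Perm.sign g = 1 ∧ ∀ x, blk B (g x) = e0 (blk A x) := by
    rcases Int.units_eq_one_or (Perm.sign g₀) with h | h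
    · exact ⟨g₀, h, hg₀⟩
    obtain ⟨z⟩ : Nonempty α := Fintype.card_pos_iff.mp (by omega)
    haveI : Nontrivial {x : α // blk A x = blk A z} := by
      rw [← Finite.one_lt_card_iff_nontrivial]
      rcases hAs (blk A z) with h' | h' <;> · rw [blkSize] at h'; omega
    obtain ⟨⟨x, hx⟩, ⟨y, hy⟩, hne⟩ := exists_pair_ne {x : α // blk A x = blk A z}
    refine ⟨g₀ * Equiv.swap x y, ?_, fun w => ?_⟩
    · rw [map_mul, h, Perm.sign_swap fun e => hne (Subtype.ext e)]; decide
    · rw [Perm.mul_apply, hg₀]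
      rcases eq_or_ne w x with rfl | hwx
      · rw [Equiv.swap_apply_left, hy, hx]
      rcases eq_or_ne w y with rfl | hwy
      · rw [Equiv.swap_apply_right, hy, hx]
      rw [Equiv.swap_apply_of_ne_of_ne hwx hwy]
  refine ⟨g, hgs, ?_⟩
  let A' := A.map (MulAut.conj g).toMonoidHom
  have hA' : IsMulCommutative A' := inferInstance
  have hA'ev : ∀ s ∈ A', Perm.sign s = 1 := by
    rintro _ ⟨s, hs, rfl⟩
    show Perm.sign (g * s * g⁻¹) = 1
    simp [hAev s hs, hgs]
  have hA'c : Nat.card A' = eMax (Fintype.card α) := by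
    rw [← hAc]; exact Nat.card_congr (A.equivMapOfInjective _ (MulAut.conj g).injective).toEquiv.symm
  obtain ⟨hA'p, hA's⟩ := (card_le_eMax hA' hA'ev h3 h5).2 hA'c
  have hrel : ∀ x y, blk A' x = blk A' y ↔ blk B x = blk B y := by
    intro x y
    have h1 : blk A' x = blk A' y ↔ blk A (g.symm x) = blk A (g.symm y) := by
      rw [blk_eq_iff, blk_eq_iff]
      constructor
      · rintro ⟨_, ⟨s, hs, rfl⟩, h⟩
        refine ⟨s, hs, ?_⟩
        rw [← h]
        simp [MulAut.conj_apply]
      · rintro ⟨s, hs, h⟩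
        refine ⟨_, ⟨s, hs, rfl⟩, ?_⟩
        simp [MulAut.conj_apply, h]
    rw [h1, ← e0.apply_eq_iff_eq, ← hg, ← hg, Equiv.apply_symm_apply, Equiv.apply_symm_apply]
  exact le_antisymm (le_of_rel hB hA' hBev hA'ev hBp hA'p hBs fun x y => (hrel x y).symm)
    (le_of_rel hA' hB hA'ev hBev hA'p hBp hA's hrel)

end Cfsg.Agent.SymAbelian
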